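import Mathlib
import Groth.Agent.Lib.Helper8.Elkik.Idem
import Groth.Agent.S0526

/-!
# Correcting approximately idempotent matrices over a henselian pair `(A, tA)`

The commutative result `Elkik.exists_sq_eq` is applied inside the commutative subalgebra of the
matrix ring generated by the approximate solution and the error term.
-/

set_option autoImplicit false
universe u
open Matrix

namespace Groth.Agent.H8.IdemApprox

theorem matrix_map_smul {R S : Type*} [CommRing R] [CommRing S] (f : R →+* S) {ι κ : Type*}
    (r : R) (M : Matrix ι κ R) : (r • M).map f = f r • M.map f := by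
  ext i j
  simp [Matrix.map_apply, Matrix.smul_apply]

/-- Correction of an approximately idempotent matrix (scaled by `t^k`) over a henselian pair
`(A, tA)`. -/
theorem exists_matrix_sq_eq {A : Type u} [CommRing A] (t : A) [HenselianRing A (Ideal.span {t})]
    {N : ℕ} (a z : Matrix (Fin N) (Fin N) A) (hcomm : a * z = z * a) (k n : ℕ) (hn : 4 * k < n)
    (h : a * a - t ^ k • a = t ^ n • z) :
    ∃ b w : Matrix (Fin N) (Fin N) A, b * b = t ^ k • b ∧ b - a = t ^ (n - 2 * k) • w := by
  classical
  let s : Set (Matrix (Fin N) (Fin N) A) := {a, z}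
  have hs : ∀ x ∈ s, ∀ y ∈ s, x * y = y * x := by
    intro x hx y hy
    simp only [s, Set.mem_insert_iff, Set.mem_singleton_iff] at hx hy
    rcases hx with rfl | rfl <;> rcases hy with rfl | rfl
    · rfl
    · exact hcomm
    · exact hcomm.symm
    · rfl
  letI : CommRing (Algebra.adjoin A s) := Algebra.adjoinCommRingOfComm A hs
  let aC : Algebra.adjoin A s := ⟨a, Algebra.subset_adjoin (by simp [s])⟩
  let zC : Algebra.adjoin A s := ⟨z, Algebra.subset_adjoin (by simp [s])⟩
  haveI : Algebra.IsIntegral A (Algebra.adjoin A s) := ⟨fun x => by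
    have h1 : IsIntegral A (x : Matrix (Fin N) (Fin N) A) := Matrix.isIntegral _
    exact (isIntegral_algHom_iff (Algebra.adjoin A s).val Subtype.val_injective).mp h1⟩
  haveI : HenselianRing (Algebra.adjoin A s)
      (Ideal.span {algebraMap A (Algebra.adjoin A s) t}) := by
    have h2 := Groth.Agent.S0526.result A (Ideal.span {t}) (Algebra.adjoin A s)
    rwa [Ideal.map_span, Set.image_singleton] at h2
  have ha : aC * aC - algebraMap A (Algebra.adjoin A s) t ^ k * aC ∈
      Ideal.span {algebraMap A (Algebra.adjoin A s) t ^ n} := by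
    have h3 : aC * aC - algebraMap A (Algebra.adjoin A s) t ^ k * aC =
        zC * algebraMap A (Algebra.adjoin A s) t ^ n := by
      apply Subtype.ext
      rw [← map_pow, ← map_pow, mul_comm zC, ← Algebra.smul_def, ← Algebra.smul_def]
      exact h
    rw [h3]
    exact Ideal.mem_span_singleton'.mpr ⟨zC, rfl⟩
  obtain ⟨bC, hbb, hba⟩ := Groth.Agent.H8.Elkik.exists_sq_eq
    (algebraMap A (Algebra.adjoin A s) t) k n hn aC ha
  obtain ⟨wC, hwC⟩ := Ideal.mem_span_singleton'.mp hba
  refine ⟨(bC : Matrix (Fin N) (Fin N) A), (wC : Matrix (Fin N) (Fin N) A), ?_, ?_⟩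
  · have h4 := congrArg Subtype.val hbb
    rw [← map_pow, ← Algebra.smul_def] at h4
    exact h4
  · have h5 := congrArg Subtype.val hwC
    rw [← map_pow, mul_comm, ← Algebra.smul_def] at h5
    exact h5.symm

end Groth.Agent.H8.IdemApprox
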