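import Mathlib
import Groth.Agent.Lib.Helper8.IdemApprox.Core
import Groth.Agent.Lib.Helper9.Misc.APM3
import Groth.Agent.Lib.Helper9.Misc.APA1

/-!
# Extending finite projective modules from `A'[1/t]` to `A[1/t]` for a henselian pair `(A, tA)`

Abstract setting: `A → A'` behaves like a `t`-adic completion (`AC1`, `AC2`, `AC3`), `(A, tA)` is
henselian with bounded `t`-power torsion, `B = A[1/t]`, `B' = A'[1/t]`.  Every idempotent matrix
over `B'` is Murray–von Neumann equivalent to the image of an idempotent matrix over `B`.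
-/

set_option autoImplicit false
universe u
open Matrix TensorProduct Groth.Agent.H9.MVN

namespace Groth.Agent.H8.IdemApprox

section maps

variable {R S : Type*} [CommRing R] [CommRing S] (f : R →+* S)

theorem matrix_map_add {ι κ : Type*} (M N : Matrix ι κ R) :
    (M + N).map f = M.map f + N.map f := Matrix.map_add f (map_add f) M N

theorem matrix_map_sub {ι κ : Type*} (M N : Matrix ι κ R) :
    (M - N).map f = M.map f - N.map f := Matrix.map_sub f (map_sub f) M N

theorem matrix_map_one {ι : Type*} [DecidableEq ι] :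
    (1 : Matrix ι ι R).map f = 1 := Matrix.map_one f (map_zero f) (map_one f)

theorem matrix_map_mul {ι κ μ : Type*} [Fintype κ] (M : Matrix ι κ R) (N : Matrix κ μ R) :
    (M * N).map f = M.map f * N.map f := Matrix.map_mul

end maps

/-- Clearing denominators in an idempotent matrix over a localization `T = S[1/τ]`. -/
theorem exists_scaled_idem {S T : Type*} [CommRing S] [CommRing T] [Algebra S T] (τ : S)
    [IsLocalization.Away τ T] {N : ℕ} (E' : Matrix (Fin N) (Fin N) T) (hE' : E' * E' = E') :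
    ∃ (k : ℕ) (a' : Matrix (Fin N) (Fin N) S), a' * a' = τ ^ k • a' ∧
      a'.map (algebraMap S T) = algebraMap S T τ ^ k • E' := by
  obtain ⟨b, hb⟩ := IsLocalization.exist_integer_multiples (Submonoid.powers τ)
    (Finset.univ : Finset (Fin N × Fin N)) (fun p => E' p.1 p.2)
  obtain ⟨m, hm⟩ := (Submonoid.mem_powers_iff _ _).mp b.2
  obtain ⟨a₁, h1⟩ : ∃ a₁ : Matrix (Fin N) (Fin N) S,
      a₁.map (algebraMap S T) = algebraMap S T τ ^ m • E' := by
    have hm' : ∀ i j, ∃ a : S, algebraMap S T a = algebraMap S T τ ^ m * E' i j := by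
      intro i j
      obtain ⟨a, ha⟩ := hb (i, j) (Finset.mem_univ _)
      have ha' : algebraMap S T a = (b : S) • E' i j := ha
      refine ⟨a, ?_⟩
      rw [ha', ← hm, Algebra.smul_def, map_pow]
    choose a₁ ha₁ using hm'
    refine ⟨Matrix.of a₁, ?_⟩
    ext i j
    rw [Matrix.map_apply, Matrix.of_apply, Matrix.smul_apply, smul_eq_mul, ha₁]
  obtain ⟨D, hD⟩ : ∃ D : Matrix (Fin N) (Fin N) S, D = a₁ * a₁ - τ ^ m • a₁ := ⟨_, rfl⟩
  have h2 : D.map (algebraMap S T) = 0 := by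
    rw [hD, matrix_map_sub, matrix_map_mul, matrix_map_smul, h1, map_pow, Matrix.smul_mul,
      Matrix.mul_smul, hE', smul_smul]
    exact sub_self _
  have h3 : ∀ p : Fin N × Fin N, ∃ c : ℕ, τ ^ c * D p.1 p.2 = 0 := by
    intro p
    have h4 : algebraMap S T (D p.1 p.2) = 0 := congrFun (congrFun h2 p.1) p.2
    obtain ⟨q, hq⟩ := (IsLocalization.map_eq_zero_iff (Submonoid.powers τ) T _).mp h4
    obtain ⟨c, hc⟩ := (Submonoid.mem_powers_iff _ _).mp q.2
    exact ⟨c, by rw [hc]; exact hq⟩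
  choose c hc using h3
  obtain ⟨c₀, hc₀⟩ : ∃ c₀ : ℕ, ∀ p, c p ≤ c₀ :=
    ⟨Finset.univ.sup c, fun p => Finset.le_sup (Finset.mem_univ p)⟩
  have h5 : τ ^ c₀ • D = 0 := by
    ext i j
    obtain ⟨d, hd⟩ := Nat.exists_eq_add_of_le (hc₀ (i, j))
    have h6 : τ ^ c (i, j) * D i j = 0 := hc (i, j)
    rw [Matrix.smul_apply, smul_eq_mul, Matrix.zero_apply, hd, pow_add, mul_comm (τ ^ c (i, j)),
      mul_assoc, h6, mul_zero]
  have h6 : τ ^ c₀ • (a₁ * a₁) = τ ^ c₀ • (τ ^ m • a₁) := by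
    rw [hD, smul_sub] at h5
    exact sub_eq_zero.mp h5
  refine ⟨m + c₀, τ ^ c₀ • a₁, ?_, ?_⟩
  · rw [Matrix.smul_mul, Matrix.mul_smul, h6, smul_smul, smul_smul, smul_smul]
    congr 1
    ring
  · rw [matrix_map_smul, h1, smul_smul, map_pow, ← pow_add, add_comm c₀ m]

/-- Approximation of a scaled idempotent over `A'` by one over `A`. -/
theorem exists_approx_sq {A A' : Type u} [CommRing A] [CommRing A'] [Algebra A A'] (t : A)
    (τ : A') (hτ : algebraMap A A' t = τ) [HenselianRing A (Ideal.span {t})]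
    (hbd : ∃ c₀ : ℕ, ∀ a : A, (∃ m : ℕ, t ^ m * a = 0) → t ^ c₀ * a = 0)
    (AC1 : ∀ (n : ℕ) (x : A'), ∃ (a : A) (y : A'), x - algebraMap A A' a = τ ^ n * y)
    (AC2 : ∀ (n : ℕ) (a : A) (y : A'), algebraMap A A' a = τ ^ n * y → ∃ a' : A, a = t ^ n * a')
    {N : ℕ} (k : ℕ) (a' : Matrix (Fin N) (Fin N) A') (ha' : a' * a' = τ ^ k • a') :
    ∃ (b : Matrix (Fin N) (Fin N) A) (G : Matrix (Fin N) (Fin N) A'),
      b * b = t ^ k • b ∧ b.map (algebraMap A A') = a' + τ ^ (2 * k + 1) • G := by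
  obtain ⟨c₀, hc₀⟩ := hbd
  obtain ⟨n₁, hn₁⟩ : ∃ n₁ : ℕ, n₁ = 4 * k + 1 + c₀ := ⟨_, rfl⟩
  obtain ⟨a₀, Y, h1⟩ : ∃ (a₀ : Matrix (Fin N) (Fin N) A) (Y : Matrix (Fin N) (Fin N) A'),
      a₀.map (algebraMap A A') = a' - τ ^ n₁ • Y := by
    choose a₀ Y hY using fun i j => AC1 n₁ (a' i j)
    refine ⟨Matrix.of a₀, Matrix.of Y, ?_⟩
    ext i j
    rw [Matrix.map_apply, Matrix.sub_apply, Matrix.smul_apply, Matrix.of_apply, Matrix.of_apply,
      smul_eq_mul, ← hY i j]
    ring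
  have h2 : (a₀ * a₀ - t ^ k • a₀).map (algebraMap A A') =
      τ ^ n₁ • (-(a' * Y) - Y * a' + τ ^ n₁ • (Y * Y) + τ ^ k • Y) := by
    rw [matrix_map_sub, matrix_map_mul, matrix_map_smul, map_pow, hτ, h1]
    have e1 : (a' - τ ^ n₁ • Y) * (a' - τ ^ n₁ • Y) - τ ^ k • (a' - τ ^ n₁ • Y) =
        (a' * a' - τ ^ k • a') +
          τ ^ n₁ • (-(a' * Y) - Y * a' + τ ^ n₁ • (Y * Y) + τ ^ k • Y) := by
      simp only [Matrix.sub_mul, Matrix.mul_sub, Matrix.smul_mul, Matrix.mul_smul]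
      module
    rw [e1, ha', sub_self, zero_add]
  obtain ⟨z, h3⟩ : ∃ z : Matrix (Fin N) (Fin N) A, a₀ * a₀ - t ^ k • a₀ = t ^ n₁ • z := by
    have h4 : ∀ i j, ∃ z : A, (a₀ * a₀ - t ^ k • a₀) i j = t ^ n₁ * z := fun i j => by
      have h5 := congrFun (congrFun h2 i) j
      rw [Matrix.map_apply, Matrix.smul_apply, smul_eq_mul] at h5
      exact AC2 n₁ _ _ h5
    choose z hz using h4
    refine ⟨Matrix.of z, ?_⟩
    ext i j
    rw [hz i j, Matrix.smul_apply, Matrix.of_apply, smul_eq_mul]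
  have h6 : a₀ * (a₀ * a₀ - t ^ k • a₀) = (a₀ * a₀ - t ^ k • a₀) * a₀ := by
    rw [Matrix.mul_sub, Matrix.sub_mul, Matrix.mul_smul, Matrix.smul_mul, Matrix.mul_assoc]
  have h7 : t ^ c₀ • (a₀ * z - z * a₀) = 0 := by
    have h8 : t ^ n₁ • (a₀ * z - z * a₀) = 0 := by
      rw [h3, Matrix.mul_smul, Matrix.smul_mul] at h6
      rw [smul_sub, h6, sub_self]
    ext i j
    have h9 := congrFun (congrFun h8 i) j
    rw [Matrix.smul_apply, smul_eq_mul, Matrix.zero_apply] at h9
    rw [Matrix.smul_apply, smul_eq_mul, Matrix.zero_apply]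
    exact hc₀ _ ⟨n₁, h9⟩
  have h10 : a₀ * (t ^ c₀ • z) = (t ^ c₀ • z) * a₀ := by
    rw [Matrix.mul_smul, Matrix.smul_mul, ← sub_eq_zero, ← smul_sub]
    exact h7
  have h11 : a₀ * a₀ - t ^ k • a₀ = t ^ (4 * k + 1) • (t ^ c₀ • z) := by
    rw [h3, smul_smul, ← pow_add, hn₁]
  obtain ⟨b, w, hbb, hbw⟩ :=
    exists_matrix_sq_eq t a₀ (t ^ c₀ • z) h10 k (4 * k + 1) (by omega) h11
  have h12 : 4 * k + 1 - 2 * k = 2 * k + 1 := by omega
  rw [h12] at hbw
  have h13 : b = a₀ + t ^ (2 * k + 1) • w := by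
    rw [← hbw]
    abel
  refine ⟨b, w.map (algebraMap A A') - τ ^ (2 * k + c₀) • Y, hbb, ?_⟩
  have h14 : 2 * k + 1 + (2 * k + c₀) = n₁ := by omega
  rw [h13, matrix_map_add, matrix_map_smul, map_pow, hτ, h1, smul_sub, smul_smul, ← pow_add, h14]
  abel

/-- From an approximating scaled idempotent over `A` to a Murray–von Neumann equivalence over
`B' = A'[1/t]`. -/
theorem exists_mvn_of_approx {A A' B B' : Type*} [CommRing A] [CommRing A'] [CommRing B]
    [CommRing B'] [Algebra A A'] [Algebra A B] [Algebra A' B'] [Algebra B B'] (t : A) (τ : A')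
    (hτ : algebraMap A A' t = τ) (hut : IsUnit (algebraMap A B t))
    (hcomp : ∀ a : A, algebraMap B B' (algebraMap A B a) = algebraMap A' B' (algebraMap A A' a))
    (AC3 : ∀ y : A', IsUnit (1 + τ * y))
    {N : ℕ} (k : ℕ) (b : Matrix (Fin N) (Fin N) A) (hbb : b * b = t ^ k • b)
    (a' G : Matrix (Fin N) (Fin N) A')
    (hb : b.map (algebraMap A A') = a' + τ ^ (2 * k + 1) • G)
    (E' : Matrix (Fin N) (Fin N) B') (hE' : E' * E' = E')
    (ha' : a'.map (algebraMap A' B') = algebraMap A' B' τ ^ k • E') :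
    ∃ E : Matrix (Fin N) (Fin N) B, E * E = E ∧ MvN (E.map (algebraMap B B')) E' := by
  obtain ⟨v, hv⟩ := hut.exists_right_inv
  obtain ⟨s, hs⟩ : ∃ s : B', s = algebraMap A' B' τ := ⟨_, rfl⟩
  have hsφ : algebraMap B B' (algebraMap A B t) = s := by rw [hcomp, hτ, hs]
  have hσ : algebraMap B B' v * s = 1 := by
    rw [← hsφ, ← map_mul, mul_comm, hv, map_one]
  have hvk : v ^ k * algebraMap A B t ^ k = 1 := by rw [← mul_pow, mul_comm, hv, one_pow]
  have hEE : (v ^ k • b.map (algebraMap A B)) * (v ^ k • b.map (algebraMap A B)) =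
      v ^ k • b.map (algebraMap A B) := by
    rw [Matrix.smul_mul, Matrix.mul_smul, ← matrix_map_mul (algebraMap A B), hbb, matrix_map_smul,
      smul_smul, smul_smul, map_pow, mul_assoc, hvk, mul_one]
  refine ⟨v ^ k • b.map (algebraMap A B), hEE, ?_⟩
  obtain ⟨P, hPdef⟩ : ∃ P : Matrix (Fin N) (Fin N) B',
      P = (v ^ k • b.map (algebraMap A B)).map (algebraMap B B') := ⟨_, rfl⟩
  rw [← hPdef]
  have hPP : P * P = P := by
    rw [hPdef, ← matrix_map_mul (algebraMap B B'), hEE]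
  have h1 : (b.map (algebraMap A B)).map (algebraMap B B') =
      (b.map (algebraMap A A')).map (algebraMap A' B') := by
    ext i j
    rw [Matrix.map_apply, Matrix.map_apply, Matrix.map_apply, Matrix.map_apply]
    exact hcomp _
  have e1 : algebraMap B B' v ^ k * s ^ k = 1 := by rw [← mul_pow, hσ, one_pow]
  have e2 : algebraMap B B' v ^ k * s ^ (2 * k + 1) = s ^ (k + 1) := by
    have e3 : 2 * k + 1 = k + (k + 1) := by omega
    rw [e3, pow_add, ← mul_assoc, e1, one_mul]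
  have hP1 : P = E' + s ^ (k + 1) • G.map (algebraMap A' B') := by
    rw [hPdef, matrix_map_smul, h1, hb, matrix_map_add, matrix_map_smul, ha', map_pow, map_pow,
      ← hs, smul_add, smul_smul, smul_smul, e1, e2, one_smul]
  have e3 : P - E' = s ^ (k + 1) • G.map (algebraMap A' B') := by
    rw [hP1]
    abel
  have e4 : s ^ k • (E' + E' - 1) =
      (a' + a' - τ ^ k • (1 : Matrix (Fin N) (Fin N) A')).map (algebraMap A' B') := by
    rw [matrix_map_sub, matrix_map_add, matrix_map_smul, ha', map_pow, ← hs, matrix_map_one,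
      smul_sub, smul_add]
  obtain ⟨C₀, hC₀⟩ : ∃ C₀ : Matrix (Fin N) (Fin N) A',
      C₀ = G * (a' + a' - τ ^ k • (1 : Matrix (Fin N) (Fin N) A')) := ⟨_, rfl⟩
  have hu1 : 1 + (P - E') * (E' + E' - 1) = (1 + τ • C₀).map (algebraMap A' B') := by
    rw [matrix_map_add, matrix_map_one, matrix_map_smul, ← hs, hC₀, matrix_map_mul, ← e4, e3,
      pow_succ, Matrix.smul_mul, Matrix.mul_smul, smul_smul, mul_comm s (s ^ k)]
  obtain ⟨a₁, ha₁⟩ := Groth.Agent.H9.APM.exists_det_one_add_smul τ C₀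
  have hdet : IsUnit (1 + (P - E') * (E' + E' - 1)).det := by
    rw [hu1, ← RingHom.mapMatrix_apply, ← RingHom.map_det, ha₁]
    exact (AC3 a₁).map _
  obtain ⟨u, hu⟩ : ∃ u : Matrix (Fin N) (Fin N) B', u = 1 + (P - E') * (E' + E' - 1) := ⟨_, rfl⟩
  rw [← hu] at hdet
  have hP' : ∀ X : Matrix (Fin N) (Fin N) B', P * (P * X) = P * X := fun X => by
    rw [← Matrix.mul_assoc, hPP]
  have hE'' : ∀ X : Matrix (Fin N) (Fin N) B', E' * (E' * X) = E' * X := fun X => by
    rw [← Matrix.mul_assoc, hE']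
  have hPu : P * u = P * E' := by
    rw [hu]
    simp only [Matrix.mul_add, Matrix.mul_sub, Matrix.sub_mul, Matrix.add_mul, Matrix.mul_one,
      Matrix.one_mul, Matrix.mul_assoc, hPP, hE', hP', hE'']
    abel
  have huE : u * E' = P * E' := by
    rw [hu]
    simp only [Matrix.mul_add, Matrix.mul_sub, Matrix.sub_mul, Matrix.add_mul, Matrix.mul_one,
      Matrix.one_mul, Matrix.mul_assoc, hPP, hE', hP', hE'']
    abel
  refine ⟨u⁻¹ * P, P * u, ?_, ?_⟩
  · rw [Matrix.mul_assoc, ← Matrix.mul_assoc u, Matrix.mul_nonsing_inv u hdet, Matrix.one_mul, hPP]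
  · rw [Matrix.mul_assoc, ← Matrix.mul_assoc P, hPP, hPu, ← huE, ← Matrix.mul_assoc,
      Matrix.nonsing_inv_mul u hdet, Matrix.one_mul]

/-- Main abstract theorem: every finite projective `A'[1/t]`-module is extended from a finite
projective `A[1/t]`-module. -/
theorem exists_module_of_away {A A' B B' : Type u} [CommRing A] [CommRing A'] [CommRing B]
    [CommRing B'] [Algebra A A'] [Algebra A B] [Algebra A' B'] [Algebra B B'] (t : A)
    [IsLocalization.Away t B] [IsLocalization.Away (algebraMap A A' t) B']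
    [HenselianRing A (Ideal.span {t})]
    (hbd : ∃ c₀ : ℕ, ∀ a : A, (∃ m : ℕ, t ^ m * a = 0) → t ^ c₀ * a = 0)
    (hcomp : ∀ a : A, algebraMap B B' (algebraMap A B a) = algebraMap A' B' (algebraMap A A' a))
    (AC1 : ∀ (n : ℕ) (x : A'), ∃ (a : A) (y : A'),
      x - algebraMap A A' a = algebraMap A A' t ^ n * y)
    (AC2 : ∀ (n : ℕ) (a : A) (y : A'), algebraMap A A' a = algebraMap A A' t ^ n * y →
      ∃ a' : A, a = t ^ n * a')
    (AC3 : ∀ y : A', IsUnit (1 + algebraMap A A' t * y))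
    (M' : Type u) [AddCommGroup M'] [Module B' M'] [Module.Finite B' M']
    [Module.Projective B' M'] :
    ∃ (M : Type u) (_ : AddCommGroup M) (_ : Module B M), Module.Finite B M ∧
      Module.Projective B M ∧ Nonempty (B' ⊗[B] M ≃ₗ[B'] M') := by
  obtain ⟨N, E', hP'⟩ := exists_pres B' M'
  have hE' := hP'.idem
  obtain ⟨k, a', ha'a', ha'⟩ := exists_scaled_idem (algebraMap A A' t) E' hE'
  obtain ⟨b, G, hbb, hb⟩ :=
    exists_approx_sq t (algebraMap A A' t) rfl hbd AC1 AC2 k a' ha'a'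
  obtain ⟨E, hE, hm⟩ := exists_mvn_of_approx (B := B) t (algebraMap A A' t) rfl
    (IsLocalization.Away.algebraMap_isUnit t) hcomp AC3 k b hbb a' G hb E' hE' ha'
  have hP₀ := pres_range hE
  exact ⟨LinearMap.range (Matrix.toLin' E), inferInstance, inferInstance, hP₀.finite,
    hP₀.projective, (hP₀.baseChange B').equiv_of_mvn hP' hm⟩

end Groth.Agent.H8.IdemApprox
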