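import Mathlib
import Groth.Prelude.Def_Hens2
import Groth.Agent.Lib.Helper8.IdemApprox.Main
import Groth.Agent.Lib.Helper8.PairHens.PowQuot
import Groth.Agent.Lib.Helper8.PairHens.Unique

/-!
# Finite projective modules over `R{t}[1/t]` and `R((t))`

`B = R{t}` is a henselization of `(R[X], (X))`, `ψ : B → R⟦X⟧` the canonical map.  We verify the
abstract hypotheses of `IdemApprox.exists_module_of_away` and of helper9's `hyp_of_away`.
-/

set_option autoImplicit false
universe u
open Polynomial TensorProduct

namespace Groth.Agent.H8.IdemApprox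

section laurent

variable {R : Type u} [CommRing R] {B : Type u} [CommRing B] [Algebra R[X] B]

theorem algebraMap_powerSeries_eq_coe (p : R[X]) :
    algebraMap R[X] (PowerSeries R) p = (p : PowerSeries R) := by
  rw [PowerSeries.algebraMap_apply', Algebra.algebraMap_self, PowerSeries.map_id]
  rfl

theorem psi_algebraMap (ψ : B →ₐ[R[X]] PowerSeries R) (p : R[X]) :
    ψ (algebraMap R[X] B p) = (p : PowerSeries R) := by
  rw [ψ.commutes, algebraMap_powerSeries_eq_coe]

theorem psi_X (ψ : B →ₐ[R[X]] PowerSeries R) :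
    ψ (algebraMap R[X] B X) = PowerSeries.X := by
  rw [psi_algebraMap, Polynomial.coe_X]

theorem laurent_AC1 (ψ : B →ₐ[R[X]] PowerSeries R) (n : ℕ) (x : PowerSeries R) :
    ∃ (a : B) (y : PowerSeries R), x - ψ a = ψ (algebraMap R[X] B X) ^ n * y := by
  have h1 : (PowerSeries.X : PowerSeries R) ^ n ∣
      x - ((PowerSeries.trunc n x : R[X]) : PowerSeries R) := by
    rw [PowerSeries.X_pow_dvd_iff]
    intro m hm
    rw [map_sub, Polynomial.coeff_coe, PowerSeries.coeff_trunc, if_pos hm, sub_self]
  obtain ⟨y, hy⟩ := h1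
  exact ⟨algebraMap R[X] B (PowerSeries.trunc n x), y, by rw [psi_algebraMap, psi_X, hy]⟩

theorem laurent_AC2 (hB : Hens2.IsPairHenselization R[X] (Ideal.span {(X : R[X])}) B)
    (ψ : B →ₐ[R[X]] PowerSeries R) (n : ℕ) (a : B) (y : PowerSeries R)
    (h : ψ a = ψ (algebraMap R[X] B X) ^ n * y) :
    ∃ a' : B, a = algebraMap R[X] B X ^ n * a' := by
  rw [psi_X] at h
  have hmap : (Ideal.span {(X : R[X])} ^ n).map (algebraMap R[X] B) =
      Ideal.span {(algebraMap R[X] B X) ^ n} := by
    rw [Ideal.span_singleton_pow, Ideal.map_span, Set.image_singleton, map_pow]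
  obtain ⟨p, hp⟩ := Groth.Agent.H8.PairHens.exists_sub_mem_pow
    (Groth.Agent.H8.PairHens.exists_sub_mem_of_isPairHenselization hB) n a
  rw [hmap] at hp
  obtain ⟨c, hc⟩ := Ideal.mem_span_singleton'.mp hp
  have h1 : (p : PowerSeries R) = PowerSeries.X ^ n * (y - ψ c) := by
    have h2 := congrArg ψ hc
    rw [map_mul, map_pow, psi_X, map_sub, h, psi_algebraMap] at h2
    linear_combination h2
  have h3 : (X : R[X]) ^ n ∣ p := by
    rw [Polynomial.X_pow_dvd_iff]
    intro d hd
    have h4 : PowerSeries.coeff d (p : PowerSeries R) = 0 := by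
      rw [h1, PowerSeries.coeff_X_pow_mul', if_neg (by omega)]
    rwa [Polynomial.coeff_coe] at h4
  obtain ⟨q, hq⟩ := h3
  refine ⟨c + algebraMap R[X] B q, ?_⟩
  have h5 : a = c * algebraMap R[X] B X ^ n + algebraMap R[X] B p := by
    rw [hc]
    ring
  rw [h5, hq, map_mul, map_pow]
  ring

theorem laurent_AC3 (ψ : B →ₐ[R[X]] PowerSeries R) (y : PowerSeries R) :
    IsUnit (1 + ψ (algebraMap R[X] B X) * y) := by
  rw [psi_X, PowerSeries.isUnit_iff_constantCoeff]
  simp

theorem laurent_main (hB : Hens2.IsPairHenselization R[X] (Ideal.span {(X : R[X])}) B)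
    (ψ : B →ₐ[R[X]] PowerSeries R)
    (L' : Type u) [CommRing L'] [Algebra (Localization.Away (algebraMap R[X] B X)) L']
    (e : L' ≃+* LaurentSeries R)
    (he : ∀ b : B, e (algebraMap (Localization.Away (algebraMap R[X] B X)) L'
        (algebraMap B (Localization.Away (algebraMap R[X] B X)) b)) =
      HahnSeries.ofPowerSeries ℤ R (ψ b)) :
    (∀ (M N : Type u) [AddCommGroup M] [Module (Localization.Away (algebraMap R[X] B X)) M] [Module.Finite (Localization.Away (algebraMap R[X] B X)) M] [Module.Projective (Localization.Away (algebraMap R[X] B X)) M]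
        [AddCommGroup N] [Module (Localization.Away (algebraMap R[X] B X)) N] [Module.Finite (Localization.Away (algebraMap R[X] B X)) N] [Module.Projective (Localization.Away (algebraMap R[X] B X)) N],
        Nonempty (L' ⊗[Localization.Away (algebraMap R[X] B X)] M ≃ₗ[L'] L' ⊗[Localization.Away (algebraMap R[X] B X)] N) → Nonempty (M ≃ₗ[Localization.Away (algebraMap R[X] B X)] N)) ∧
    (∀ (M' : Type u) [AddCommGroup M'] [Module L' M'] [Module.Finite L' M'] [Module.Projective L' M'],
        ∃ (M : Type u) (_ : AddCommGroup M) (_ : Module (Localization.Away (algebraMap R[X] B X)) M),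
          Module.Finite (Localization.Away (algebraMap R[X] B X)) M ∧ Module.Projective (Localization.Away (algebraMap R[X] B X)) M ∧
          Nonempty (L' ⊗[Localization.Away (algebraMap R[X] B X)] M ≃ₗ[L'] M')) := by
  letI algBP : Algebra B (PowerSeries R) := ψ.toRingHom.toAlgebra
  letI algPL' : Algebra (PowerSeries R) L' :=
    ((e.symm : LaurentSeries R →+* L').comp (HahnSeries.ofPowerSeries ℤ R)).toAlgebra
  have hψt : algebraMap B (PowerSeries R) (algebraMap R[X] B X) = PowerSeries.X := psi_X ψ
  let eA : LaurentSeries R ≃ₐ[PowerSeries R] L' :=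
    AlgEquiv.ofRingEquiv (f := e.symm) (fun x => rfl)
  haveI hloc : IsLocalization.Away (algebraMap B (PowerSeries R) (algebraMap R[X] B X)) L' := by
    rw [hψt]
    exact IsLocalization.isLocalization_of_algEquiv
      (Submonoid.powers (PowerSeries.X : PowerSeries R)) eA
  haveI hH : HenselianRing B (Ideal.span {algebraMap R[X] B X}) := by
    have h1 := hB.1
    rwa [Ideal.map_span, Set.image_singleton] at h1
  have ht : algebraMap R[X] B X ∈ (⊥ : Ideal B).jacobson :=
    hH.jac (Ideal.mem_span_singleton_self _)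
  have hreg : IsSMulRegular B (algebraMap R[X] B X) := by
    haveI := Groth.Agent.H8.PairHens.flat_of_isPairHenselization hB
    exact IsSMulRegular.of_flat (Polynomial.monic_X.isRegular.left.isSMulRegular)
  have hbd : ∃ c₀ : ℕ, ∀ a : B, (∃ m : ℕ, (algebraMap R[X] B X) ^ m * a = 0) →
      (algebraMap R[X] B X) ^ c₀ * a = 0 := by
    refine ⟨0, fun a ⟨m, hm⟩ => ?_⟩
    rw [pow_zero, one_mul]
    exact (hreg.pow m) (show (algebraMap R[X] B X) ^ m • a = (algebraMap R[X] B X) ^ m • 0 by
      rw [smul_eq_mul, smul_zero, hm])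
  have hcomp : ∀ a : B, algebraMap (Localization.Away (algebraMap R[X] B X)) L'
      (algebraMap B (Localization.Away (algebraMap R[X] B X)) a) =
      algebraMap (PowerSeries R) L' (algebraMap B (PowerSeries R) a) := fun a =>
    (e.symm_apply_apply _).symm.trans (congrArg e.symm (he a))
  have AC1 : ∀ (n : ℕ) (x : PowerSeries R), ∃ (a : B) (y : PowerSeries R),
      x - algebraMap B (PowerSeries R) a =
        algebraMap B (PowerSeries R) (algebraMap R[X] B X) ^ n * y := fun n x =>
    laurent_AC1 ψ n x
  have AC2 : ∀ (n : ℕ) (a : B) (y : PowerSeries R), algebraMap B (PowerSeries R) a =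
      algebraMap B (PowerSeries R) (algebraMap R[X] B X) ^ n * y →
      ∃ a' : B, a = (algebraMap R[X] B X) ^ n * a' := fun n a y h =>
    laurent_AC2 hB ψ n a y h
  have AC3 : ∀ y : PowerSeries R,
      IsUnit (1 + algebraMap B (PowerSeries R) (algebraMap R[X] B X) * y) := fun y =>
    laurent_AC3 ψ y
  refine ⟨?_, ?_⟩
  · exact (Groth.Agent.H9.APA.hyp_of_away (A := B) (A' := PowerSeries R)
      (B := Localization.Away (algebraMap R[X] B X)) (B' := L') (algebraMap R[X] B X) hcomp ht
      AC1 AC2 AC3).main.1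
  · intro M' _ _ _ _
    exact exists_module_of_away (A := B) (A' := PowerSeries R)
      (B := Localization.Away (algebraMap R[X] B X)) (B' := L') (algebraMap R[X] B X) hbd hcomp
      AC1 AC2 AC3 M'

end laurent

end Groth.Agent.H8.IdemApprox
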